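import Groth.Agent.Lib.RingedPush4.Scheme
import Groth.Agent.Lib.DescLocus6.Frames
import Groth.Agent.Lib.GrBC.Basic
import Groth.Agent.Lib.AffHom.Basic
import Groth.Agent.Lib.PPGen.DiffBasic
import Groth.Agent.Lib.Ample.Cocycle
import Groth.Agent.Lib.Euler.Coh

/-!
# Homomorphisms of locally free modules on a pushout of ringed spaces
-/

set_option autoImplicit false
set_option linter.style.haveILetI false
set_option backward.isDefEq.respectTransparency false
set_option maxHeartbeats 1000000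

universe u

open CategoryTheory CategoryTheory.Limits AlgebraicGeometry Opposite TopologicalSpace
open GrothLib.InvExt (mres fres)
open GrothLib.FinCov (IsFrame)

noncomputable section

namespace GrothLib.PinchHom4

variable {X Y Z T : Scheme.{u}} {fX : Z ⟶ X} {fY : Z ⟶ Y} {gX : X ⟶ T} {gY : Y ⟶ T} (hw : fX ≫ gX = fY ≫ gY)

/-- The comparison of the two pullbacks to the corner. -/
abbrev cmp (N : T.Modules) : (Scheme.Modules.pullback fX).obj ((Scheme.Modules.pullback gX).obj N) ≅
    (Scheme.Modules.pullback fY).obj ((Scheme.Modules.pullback gY).obj N) :=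
  (Scheme.Modules.pullbackComp fX gX).app N ≪≫ (Scheme.Modules.pullbackCongr hw).app N ≪≫
    ((Scheme.Modules.pullbackComp fY gY).app N).symm

include hw in
theorem le_corner (W : T.Opens) : fY ⁻¹ᵁ (gY ⁻¹ᵁ W) ≤ fX ⁻¹ᵁ (gX ⁻¹ᵁ W) :=
  le_of_eq (by rw [← Scheme.Hom.comp_preimage, ← hw, Scheme.Hom.comp_preimage])

/-- Compatibility of sections on the two pieces. -/
def Compat (N : T.Modules) (W : T.Opens) (u : Γ((Scheme.Modules.pullback gX).obj N, gX ⁻¹ᵁ W))
    (v : Γ((Scheme.Modules.pullback gY).obj N, gY ⁻¹ᵁ W)) : Prop :=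
  mres _ (le_corner hw W) ((cmp hw N).hom.app (fX ⁻¹ᵁ (gX ⁻¹ᵁ W)) (OmegaSh.pullSect fX _ (gX ⁻¹ᵁ W) u)) =
    OmegaSh.pullSect fY _ (gY ⁻¹ᵁ W) v

theorem cmp_pullSect (N : T.Modules) (W : T.Opens) (t : Γ(N, W)) :
    Compat hw N W (OmegaSh.pullSect gX N W t) (OmegaSh.pullSect gY N W t) := by
  show mres _ _ (((Scheme.Modules.pullbackComp fY gY).inv.app N).app _
    (((Scheme.Modules.pullbackCongr hw).hom.app N).app _ (((Scheme.Modules.pullbackComp fX gX).hom.app N).app _
      (OmegaSh.pullSect fX _ (gX ⁻¹ᵁ W) (OmegaSh.pullSect gX N W t))))) = _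
  have h : (fX ≫ gX) ⁻¹ᵁ W ≤ (fY ≫ gY) ⁻¹ᵁ W := le_of_eq (by rw [hw])
  rw [GrBC.pullbackComp_hom_pullSect]
  refine (congrArg (fun z => mres _ (le_corner hw W) (((Scheme.Modules.pullbackComp fY gY).inv.app N).app _ z))
    (GrBC.pullbackCongr_pullSect hw N W t h)).trans ?_
  refine (congrArg (mres _ (le_corner hw W))
    (Ample.app_mres ((Scheme.Modules.pullbackComp fY gY).inv.app N) h (OmegaSh.pullSect (fY ≫ gY) N W t))).trans ?_
  refine (InvExt.mres_mres _ _ _ _).trans ((InvExt.mres_self _ _).trans ?_)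
  exact GrBC.pullbackComp_inv_pullSect fY gY N W t

theorem app_corner (W : T.Opens) (r : Γ(T, W)) :
    fres Z (le_corner hw W) (fX.app _ (gX.app W r)) = fY.app _ (gY.app W r) := by
  have key : ∀ (q : Z ⟶ T) (_ : fY ≫ gY = q) (e : (fY ≫ gY) ⁻¹ᵁ W ≤ q ⁻¹ᵁ W),
      fres Z e (q.app W r) = (fY ≫ gY).app W r := by
    rintro q rfl e; exact InvExt.fres_self _
  exact key (fX ≫ gX) hw.symm _

variable (hpo : IsPushout ((Scheme.forgetToLocallyRingedSpace ⋙ LocallyRingedSpace.forgetToSheafedSpace).map fX)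
  ((Scheme.forgetToLocallyRingedSpace ⋙ LocallyRingedSpace.forgetToSheafedSpace).map fY)
  ((Scheme.forgetToLocallyRingedSpace ⋙ LocallyRingedSpace.forgetToSheafedSpace).map gX)
  ((Scheme.forgetToLocallyRingedSpace ⋙ LocallyRingedSpace.forgetToSheafedSpace).map gY))
  {N : T.Modules}

include hw hpo

theorem existsUnique_of_frame [N.IsQuasicoherent] {V : T.Opens} {n : ℕ} {e : Fin n → Γ(N, V)}
    (he : IsFrame N V e) {W : T.Opens} (hW : W ≤ V) :
    ∀ (u : Γ((Scheme.Modules.pullback gX).obj N, gX ⁻¹ᵁ W)) (v : Γ((Scheme.Modules.pullback gY).obj N, gY ⁻¹ᵁ W)),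
      (∀ t t' : Γ(N, W), OmegaSh.pullSect gX N W t = OmegaSh.pullSect gX N W t' →
          OmegaSh.pullSect gY N W t = OmegaSh.pullSect gY N W t' → t = t') ∧
      (Compat hw N W u v → ∃ t, OmegaSh.pullSect gX N W t = u ∧ OmegaSh.pullSect gY N W t = v) := by
  classical
  let E : Fin n → Γ(N, W) := fun i => mres N hW (e i)
  have hE : IsFrame N W E := IntFree6.isFrame_mres he hW
  haveI : ((Scheme.Modules.pullback gY).obj N).IsQuasicoherent := FittSheaf.isQuasicoherent_pullback gY N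
  have hpull : ∀ {S R : Scheme.{u}} (q : S ⟶ R) (M : R.Modules) [M.IsQuasicoherent] {O : R.Opens}
      {f : Fin n → Γ(M, O)}, IsFrame M O f → Function.Bijective fun c : Fin n → Γ(S, q ⁻¹ᵁ O) =>
        ∑ i, c i • OmegaSh.pullSect q M O (f i) := by
    intro S R q M _ O f hf
    convert (DescLocus6.isFrame_pullRes q M hf (le_refl (q ⁻¹ᵁ O))) (q ⁻¹ᵁ O) le_rfl using 3 with c i
    refine congrArg (c i • ·) ?_
    simp only [CohPullLib.pullRes_def]
    exact ((InvExt.mres_self _ _).trans (InvExt.mres_self _ _)).symm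
  have hX := hpull gX N hE
  have hY := hpull gY N hE
  have hYf : IsFrame ((Scheme.Modules.pullback gY).obj N) (gY ⁻¹ᵁ W) fun i => OmegaSh.pullSect gY N W (E i) := by
    intro O hO
    convert DescLocus6.isFrame_pullRes gY N hE (le_refl (gY ⁻¹ᵁ W)) O hO using 3 with c i
    refine congrArg (fun z => c i • mres _ hO z) ?_
    simp only [CohPullLib.pullRes_def]
    exact (InvExt.mres_self _ _).symm
  have hZ := hpull fY ((Scheme.Modules.pullback gY).obj N) hYf
  have hexp : ∀ {S : Scheme.{u}} (g : S ⟶ T) (c : Fin n → Γ(T, W)),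
      OmegaSh.pullSect g N W (∑ i, c i • E i) = ∑ i, g.app W (c i) • OmegaSh.pullSect g N W (E i) := fun g c => by
    rw [map_sum]
    exact Finset.sum_congr rfl fun i _ => OmegaSh.pullSect_smul g N W _ _
  have hw' : op (fX ⁻¹ᵁ gX ⁻¹ᵁ W) = op (fY ⁻¹ᵁ gY ⁻¹ᵁ W) := by
    rw [← Scheme.Hom.comp_preimage, hw, Scheme.Hom.comp_preimage]
  intro u v
  refine ⟨fun t t' hx hy => ?_, fun huv => ?_⟩
  · obtain ⟨c, rfl⟩ := (hE W le_rfl).2 t
    obtain ⟨c', rfl⟩ := (hE W le_rfl).2 t'
    simp only [InvExt.mres_self, E] at hx hy ⊢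
    rw [hexp, hexp] at hx hy
    have hx' := hX.1 hx
    have hy' := hY.1 hy
    suffices c = c' by rw [this]
    funext i
    obtain ⟨s, -, hs⟩ := RingedPush4.existsUnique_section_scheme hpo hw W (gX.app W (c i)) (gY.app W (c i)) (by
      refine Eq.trans ?_ (app_corner hw W (c i))
      exact congrArg (fun m => Z.presheaf.map m (fX.app _ (gX.app W (c i)))) (Subsingleton.elim _ _))
    exact (hs (c i) ⟨rfl, rfl⟩).trans (hs (c' i) ⟨(congrFun hx' i).symm, (congrFun hy' i).symm⟩).symm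
  · obtain ⟨a, rfl⟩ := hX.2 u
    obtain ⟨b, rfl⟩ := hY.2 v
    have key : ∀ i, fres Z (le_corner hw W) (fX.app _ (a i)) = fY.app _ (b i) := by
      refine congrFun (hZ.1 ?_)
      show ∑ i, _ • _ = ∑ i, _ • _
      simp only [Compat, map_sum, OmegaSh.pullSect_smul, Scheme.Modules.Hom.app_smul] at huv
      refine Eq.trans ?_ huv
      refine Finset.sum_congr rfl fun i _ => ?_
      refine Eq.trans ?_ (InvExt.mres_smul _ _ _ _).symm
      exact congrArg _ (cmp_pullSect hw N W (E i)).symm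
    have hc : ∀ i, ∃ c : Γ(T, W), gX.app W c = a i ∧ gY.app W c = b i := fun i => by
      obtain ⟨c, hc, -⟩ := RingedPush4.existsUnique_section_scheme hpo hw W (a i) (b i) (by
        refine Eq.trans ?_ (key i)
        exact congrArg (fun m => Z.presheaf.map m (fX.app _ (a i))) (Subsingleton.elim _ _))
      exact ⟨c, hc⟩
    choose c hcx hcy using hc
    exact ⟨∑ i, c i • E i, by simp only [hexp, hcx], by simp only [hexp, hcy]⟩

theorem ext_of_finLocFree (hN : FlatMod.IsFinLocFree N) {W : T.Opens} {t t' : Γ(N, W)}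
    (hx : OmegaSh.pullSect gX N W t = OmegaSh.pullSect gX N W t')
    (hy : OmegaSh.pullSect gY N W t = OmegaSh.pullSect gY N W t') : t = t' := by
  haveI := Euler.isQuasicoherent_of_isFinLocFree hN
  choose V n e hxV he using fun x : T => FinCov.exists_frame_nhd hN x
  refine Ample.meq_of_cover N (fun x : W => W ⊓ V x.1) (fun x => inf_le_left)
    (fun y hy => Opens.mem_iSup.2 ⟨⟨y, hy⟩, hy, hxV y⟩) fun x => ?_
  refine (existsUnique_of_frame hw hpo (he x.1) (inf_le_right : W ⊓ V x.1 ≤ V x.1) 0 0).1 _ _ ?_ ?_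
  · rw [show mres N inf_le_left t = N.presheaf.map (homOfLE (inf_le_left : W ⊓ V x.1 ≤ W)).op t from rfl,
      show mres N inf_le_left t' = N.presheaf.map (homOfLE (inf_le_left : W ⊓ V x.1 ≤ W)).op t' from rfl,
      OmegaSh.pullSect_map, OmegaSh.pullSect_map, hx]
  · rw [show mres N inf_le_left t = N.presheaf.map (homOfLE (inf_le_left : W ⊓ V x.1 ≤ W)).op t from rfl,
      show mres N inf_le_left t' = N.presheaf.map (homOfLE (inf_le_left : W ⊓ V x.1 ≤ W)).op t' from rfl,
      OmegaSh.pullSect_map, OmegaSh.pullSect_map, hy]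

theorem hom_ext {M : T.Modules} (hN : FlatMod.IsFinLocFree N) (φ ψ : M ⟶ N)
    (hx : (Scheme.Modules.pullback gX).map φ = (Scheme.Modules.pullback gX).map ψ)
    (hy : (Scheme.Modules.pullback gY).map φ = (Scheme.Modules.pullback gY).map ψ) : φ = ψ := by
  refine Scheme.Modules.hom_ext _ _ fun W => ConcreteCategory.hom_ext _ _ fun m => ?_
  refine ext_of_finLocFree hw hpo hN ?_ ?_
  · rw [← GrBC.pullback_map_pullSect, ← GrBC.pullback_map_pullSect, hx]
  · rw [← GrBC.pullback_map_pullSect, ← GrBC.pullback_map_pullSect, hy]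

theorem exists_hom {M : T.Modules} (hN : FlatMod.IsFinLocFree N)
    (a : (Scheme.Modules.pullback gX).obj M ⟶ (Scheme.Modules.pullback gX).obj N)
    (b : (Scheme.Modules.pullback gY).obj M ⟶ (Scheme.Modules.pullback gY).obj N)
    (hab : (Scheme.Modules.pullback fX).map a ≫ (cmp hw N).hom = (cmp hw M).hom ≫ (Scheme.Modules.pullback fY).map b) :
    ∃ φ : M ⟶ N, (Scheme.Modules.pullback gX).map φ = a ∧ (Scheme.Modules.pullback gY).map φ = b := by
  haveI := Euler.isQuasicoherent_of_isFinLocFree hN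
  choose V n e hxV he using fun x : T => FinCov.exists_frame_nhd hN x
  let B : {W : T.Opens // ∃ x, W ≤ V x} → T.Opens := fun W => W.1
  have hB : Opens.IsBasis (Set.range B) := Opens.isBasis_iff_nbhd.2 fun {U x} hx =>
    ⟨U ⊓ V x, ⟨⟨U ⊓ V x, x, inf_le_right⟩, rfl⟩, ⟨hx, hxV x⟩, inf_le_left⟩
  have hcompat : ∀ (W : T.Opens) (m : Γ(M, W)),
      Compat hw N W (a.app _ (OmegaSh.pullSect gX M W m)) (b.app _ (OmegaSh.pullSect gY M W m)) := by
    intro W m
    show mres _ _ ((cmp hw N).hom.app _ (OmegaSh.pullSect fX _ _ (a.app _ _))) = _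
    rw [← GrBC.pullback_map_pullSect, ← GrBC.pullback_map_pullSect fY b]
    have h1 := congr($(hab).app (fX ⁻¹ᵁ gX ⁻¹ᵁ W) (OmegaSh.pullSect fX _ (gX ⁻¹ᵁ W) (OmegaSh.pullSect gX M W m)))
    refine (congrArg (mres _ (le_corner hw W)) h1).trans ?_
    refine (Ample.app_mres ((Scheme.Modules.pullback fY).map b) (le_corner hw W) _).symm.trans ?_
    exact congrArg (((Scheme.Modules.pullback fY).map b).app _) (cmp_pullSect hw M W m)
  have hex : ∀ (W : {W : T.Opens // ∃ x, W ≤ V x}) (m : Γ(M, W.1)), ∃ t : Γ(N, W.1),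
      OmegaSh.pullSect gX N W.1 t = a.app _ (OmegaSh.pullSect gX M W.1 m) ∧
      OmegaSh.pullSect gY N W.1 t = b.app _ (OmegaSh.pullSect gY M W.1 m) := by
    intro W m
    obtain ⟨x, hx⟩ := W.2
    exact (existsUnique_of_frame hw hpo (he x) hx _ _).2 (hcompat W.1 m)
  choose L hLX hLY using hex
  obtain ⟨φ, hφ⟩ := AffHom.exists_hom_basis (M := M) (N := N) hB
    (fun W => { toFun := L W
                map_add' := fun m m' => ext_of_finLocFree hw hpo hN
                  (by simp only [map_add, hLX]) (by simp only [map_add, hLY])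
                map_smul' := fun r m => ext_of_finLocFree hw hpo hN
                  (by simp only [OmegaSh.pullSect_smul, Scheme.Modules.Hom.app_smul, hLX, RingHom.id_apply])
                  (by simp only [OmegaSh.pullSect_smul, Scheme.Modules.Hom.app_smul, hLY, RingHom.id_apply]) })
    (fun W W' h m => ext_of_finLocFree hw hpo hN
      (by
        show OmegaSh.pullSect gX N W'.1 (N.presheaf.map (homOfLE h).op (L W m)) =
          OmegaSh.pullSect gX N W'.1 (L W' (M.presheaf.map (homOfLE h).op m))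
        refine (OmegaSh.pullSect_map gX N h _).trans (Eq.trans ?_ (hLX W' _).symm)
        refine Eq.trans ?_ (congrArg (a.app _) (OmegaSh.pullSect_map gX M h m).symm)
        rw [hLX]
        exact (Ample.app_mres a (gX.preimage_mono h) _).symm)
      (by
        show OmegaSh.pullSect gY N W'.1 (N.presheaf.map (homOfLE h).op (L W m)) =
          OmegaSh.pullSect gY N W'.1 (L W' (M.presheaf.map (homOfLE h).op m))
        refine (OmegaSh.pullSect_map gY N h _).trans (Eq.trans ?_ (hLY W' _).symm)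
        refine Eq.trans ?_ (congrArg (b.app _) (OmegaSh.pullSect_map gY M h m).symm)
        rw [hLY]
        exact (Ample.app_mres b (gY.preimage_mono h) _).symm))
  have main : ∀ {S : Scheme.{u}} (g : S ⟶ T) (c : (Scheme.Modules.pullback g).obj M ⟶ (Scheme.Modules.pullback g).obj N),
      (∀ W m, OmegaSh.pullSect g N W.1 (L W m) = c.app _ (OmegaSh.pullSect g M W.1 m)) →
      (Scheme.Modules.pullback g).map φ = c := by
    intro S g c hc
    refine PPGen.hom_ext_pullSect g _ _ fun U t => ?_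
    refine Ample.meq_of_cover _ (fun x : U => g ⁻¹ᵁ (U ⊓ V x.1)) (fun x => g.preimage_mono inf_le_left)
      (fun y hy => Opens.mem_iSup.2 ⟨⟨g y, hy⟩, hy, hxV (g y)⟩) fun x => ?_
    rw [← Ample.app_mres, ← Ample.app_mres]
    rw [show mres _ (g.preimage_mono (inf_le_left : U ⊓ V x.1 ≤ U)) (OmegaSh.pullSect g M U t) =
      OmegaSh.pullSect g M (U ⊓ V x.1) (mres M inf_le_left t) from (OmegaSh.pullSect_map g M inf_le_left t).symm]
    rw [GrBC.pullback_map_pullSect]
    refine (congrArg (OmegaSh.pullSect g N (U ⊓ V x.1)) (hφ ⟨U ⊓ V x.1, x.1, inf_le_right⟩ _)).trans ?_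
    exact hc ⟨U ⊓ V x.1, x.1, inf_le_right⟩ _
  exact ⟨φ, main gX a hLX, main gY b hLY⟩

end GrothLib.PinchHom4
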